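import Groth.Agent.ResProp.EF.K558.SecBC
import Groth.Agent.ResProp.EF.K83.FinDatum
import Mathlib.RingTheory.Flat.Basic
import Mathlib.RingTheory.Flat.Stability

/-!
# Extension of a coaction to the sections over an invariant open (S16912, G1, node P4)

`c : CoAlg k O R`, `W = ⋃ D(s i)` invariant (e.g. `ρ (s i) = s i ⊗ χ i`, `χ i` a unit) ⟹ `coAlgSec : CoAlg k O (Sec R W)`,
`ρ₀ (secOf W r) = tenMap (ρ r)`; it is the unique ring map with this property.
-/

set_option autoImplicit false
universe u v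

open CategoryTheory CategoryTheory.Limits AlgebraicGeometry TopologicalSpace Opposite TensorProduct

namespace Groth.Agent.ResProp.EF.K558

open Groth.Agent.ResProp.EF.K83

section Ext

variable {k : Type u} [CommRing k] {R : Type u} [CommRing R] [Algebra k R] (P : Type u) [CommRing P] [Algebra k P]
  [Module.Flat k P]

/-- `Γ(R, W) ⊗ P ≃ Γ(R ⊗ P, W)` -/
noncomputable def bcE (W : (Spec (.of R)).Opens) (hW : IsCompact W.1) :
    Sec R W ⊗[k] P ≃ₐ[k] Sec (R ⊗[k] P) (prU k P W) :=
  AlgEquiv.ofBijective (bc P W) (bijective_bc P W hW)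

/-- extension of `f : R → R ⊗ P` to `Γ(R, W) → Γ(R, W) ⊗ P` -/
noncomputable def extMap (W : (Spec (.of R)).Opens) (hW : IsCompact W.1) (f : R →+* R ⊗[k] P)
    (hf : prU k P W ≤ Spec.map (CommRingCat.ofHom f) ⁻¹ᵁ W) : Sec R W →+* Sec R W ⊗[k] P :=
  ((bcE (k := k) P W hW).symm.toAlgHom.toRingHom).comp (sMap f W (prU k P W) hf)

theorem extMap_secOf (W : (Spec (.of R)).Opens) (hW : IsCompact W.1) (f : R →+* R ⊗[k] P)
    (hf : prU k P W ≤ Spec.map (CommRingCat.ofHom f) ⁻¹ᵁ W) (r : R) :
    extMap P W hW f hf (secOf W r) = tenMap P W (f r) := by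
  apply (bcE P W hW).injective
  change bcE P W hW ((bcE P W hW).symm (sMap f W (prU k P W) hf (secOf W r))) = bc P W (tenMap P W (f r))
  rw [AlgEquiv.apply_symm_apply, sMap_secOf, bc_tenMap]

/-- ring maps `Γ(R, W) → Γ(R, W) ⊗ P` are determined by their values on `R` -/
theorem ten_ext {ι : Type v} [Finite ι] (s : ι → R) (f : R →+* R ⊗[k] P)
    (hf : prU k P (dU s) ≤ dU (fun i => f (s i))) (g g' : Sec R (dU s) →+* Sec R (dU s) ⊗[k] P)
    (hg : ∀ r, g (secOf _ r) = tenMap P _ (f r)) (hg' : ∀ r, g' (secOf _ r) = tenMap P _ (f r)) : g = g' := by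
  have h1 : (bc P (dU s)).toRingHom.comp g = (bc P (dU s)).toRingHom.comp g' := by
    refine sec_ext s f (prU k P (dU s)) hf _ _ (fun r => ?_) (fun r => ?_)
    · change bc P (dU s) (g (secOf _ r)) = _
      rw [hg, bc_tenMap]
    · change bc P (dU s) (g' (secOf _ r)) = _
      rw [hg', bc_tenMap]
  ext z
  exact (bijective_bc P (dU s) (isCompact_dU s)).1 (congrArg (fun ψ => ψ z) h1)

end Ext

section Nat

variable {k : Type u} [CommRing k] {R : Type u} [CommRing R] [Algebra k R] {P P' : Type u} [CommRing P] [Algebra k P]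
  [CommRing P'] [Algebra k P']

theorem map_tenMap (φ : P →ₐ[k] P') (W : (Spec (.of R)).Opens) (t : R ⊗[k] P) :
    Algebra.TensorProduct.map (AlgHom.id k (Sec R W)) φ (tenMap P W t) =
      tenMap P' W (Algebra.TensorProduct.map (AlgHom.id k R) φ t) := by
  induction t with
  | zero => simp
  | add x y hx hy => rw [map_add, map_add, map_add, map_add, hx, hy]
  | tmul r x => rfl

/-- `id ⊗ φ` pulls back `prU` to `prU` -/
theorem prU_map_le {ι : Type v} (s : ι → R) (f : R →+* R ⊗[k] P) (hf : prU k P (dU s) ≤ dU (fun i => f (s i)))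
    (φ : P →ₐ[k] P') : prU k P' (dU s) ≤
      dU (fun i => ((Algebra.TensorProduct.map (AlgHom.id k R) φ).toRingHom.comp f) (s i)) := by
  have h1 : prU k P' (dU s) = Spec.map (CommRingCat.ofHom (Algebra.TensorProduct.map (AlgHom.id k R) φ).toRingHom) ⁻¹ᵁ
      prU k P (dU s) := by
    rw [prU_dU, prU_dU, preimage_dU]
    congr 1
    ext i
    change _ = Algebra.TensorProduct.map (AlgHom.id k R) φ (s i ⊗ₜ[k] (1 : P))
    rw [Algebra.TensorProduct.map_tmul, map_one]
    rfl
  have h2 : dU (fun i => ((Algebra.TensorProduct.map (AlgHom.id k R) φ).toRingHom.comp f) (s i)) =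
      Spec.map (CommRingCat.ofHom (Algebra.TensorProduct.map (AlgHom.id k R) φ).toRingHom) ⁻¹ᵁ
        dU (fun i => f (s i)) := by
    rw [preimage_dU]
    rfl
  rw [h1, h2]
  exact fun x hx => hf hx

end Nat

section Coact

variable {k : Type u} [CommRing k] {R : Type u} [CommRing R] [Algebra k R] {O : Type u} [CommRing O] [HopfAlgebra k O]
  [Module.Flat k O] {ι : Type v} [Finite ι] (s : ι → R) (c : CoAlg k O R)

omit [Module.Flat k O] [Finite ι] in
/-- semi-invariance implies that the open is invariant -/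
theorem inv_of_semi (u : ι → O) (hu : ∀ i, IsUnit (u i)) (hs : ∀ i, c.ρ (s i) = s i ⊗ₜ[k] u i) :
    prU k O (dU s) ≤ dU (fun i => c.ρ (s i)) := by
  rw [prU_dU]
  intro x hx
  obtain ⟨i, hi⟩ := (mem_dU _ x).1 hx
  refine (mem_dU _ x).2 ⟨i, ?_⟩
  have h1 : c.ρ (s i) = (s i ⊗ₜ[k] (1 : O)) * ((1 : R) ⊗ₜ[k] u i) := by
    rw [hs, Algebra.TensorProduct.tmul_mul_tmul, mul_one, one_mul]
  have h2 : IsUnit ((1 : R) ⊗ₜ[k] u i) := (hu i).map (Algebra.TensorProduct.includeRight : O →ₐ[k] R ⊗[k] O)
  rw [h1]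
  change _ ∉ x.asIdeal
  intro h3
  rcases x.2.mem_or_mem h3 with h4 | h4
  · exact hi h4
  · exact x.2.ne_top (Ideal.eq_top_of_isUnit_mem _ h4 h2)

/-- the extended coaction as an algebra map -/
noncomputable def rho0 (hc : prU k O (dU s) ≤ dU (fun i => c.ρ (s i))) :
    Sec R (dU s) →ₐ[k] Sec R (dU s) ⊗[k] O where
  toRingHom := extMap O (dU s) (isCompact_dU s) c.ρ.toRingHom (hc.trans (preimage_dU c.ρ.toRingHom s).ge)
  commutes' x := by
    refine (extMap_secOf O (dU s) (isCompact_dU s) c.ρ.toRingHom _ (algebraMap k R x)).trans ?_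
    change tenMap O (dU s) (c.ρ (algebraMap k R x)) = _
    rw [AlgHom.commutes, AlgHom.commutes]

theorem rho0_secOf (hc : prU k O (dU s) ≤ dU (fun i => c.ρ (s i))) (r : R) :
    rho0 s c hc (secOf _ r) = tenMap O (dU s) (c.ρ r) :=
  extMap_secOf O (dU s) (isCompact_dU s) c.ρ.toRingHom _ r

theorem assoc_tenMap (hc : prU k O (dU s) ≤ dU (fun i => c.ρ (s i))) (t : R ⊗[k] O) :
    Algebra.TensorProduct.assoc k k k (Sec R (dU s)) O O
      (Algebra.TensorProduct.map (rho0 s c hc) (AlgHom.id k O) (tenMap O (dU s) t)) =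
    tenMap (O ⊗[k] O) (dU s) (Algebra.TensorProduct.assoc k k k R O O (Algebra.TensorProduct.map c.ρ (AlgHom.id k O) t)) := by
  induction t with
  | zero => simp
  | add x y hx hy => simp only [map_add, hx, hy]
  | tmul r x =>
    rw [tenMap_tmul, Algebra.TensorProduct.map_tmul, Algebra.TensorProduct.map_tmul, rho0_secOf]
    generalize c.ρ r = w
    induction w with
    | zero => simp
    | add a b ha hb => simp only [map_add, TensorProduct.add_tmul, ha, hb]
    | tmul a b => rfl

/-- **The coaction on `Γ(Spec R, W)`** -/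
noncomputable def coAlgSec (hc : prU k O (dU s) ≤ dU (fun i => c.ρ (s i))) : CoAlg k O (Sec R (dU s)) where
  ρ := rho0 s c hc
  coassoc := by
    let f : R →+* R ⊗[k] (O ⊗[k] O) :=
      (Algebra.TensorProduct.map (AlgHom.id k R) (Bialgebra.comulAlgHom k O)).toRingHom.comp c.ρ.toRingHom
    have h := ten_ext (O ⊗[k] O) s f (prU_map_le s c.ρ.toRingHom hc _)
      (((Algebra.TensorProduct.assoc k k k (Sec R (dU s)) O O).toAlgHom.comp
        ((Algebra.TensorProduct.map (rho0 s c hc) (AlgHom.id k O)).comp (rho0 s c hc))).toRingHom)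
      (((Algebra.TensorProduct.map (AlgHom.id k (Sec R (dU s))) (Bialgebra.comulAlgHom k O)).comp (rho0 s c hc)).toRingHom)
      (fun r => by
        change Algebra.TensorProduct.assoc k k k (Sec R (dU s)) O O
          (Algebra.TensorProduct.map (rho0 s c hc) (AlgHom.id k O) (rho0 s c hc (secOf _ r))) = _
        rw [rho0_secOf, assoc_tenMap]
        congr 1
        exact c.coassoc r)
      (fun r => by
        change Algebra.TensorProduct.map (AlgHom.id k (Sec R (dU s))) (Bialgebra.comulAlgHom k O)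
          (rho0 s c hc (secOf _ r)) = _
        rw [rho0_secOf, map_tenMap]
        rfl)
    intro x
    exact congrArg (fun ψ => ψ x) h
  counit := by
    have h := ten_ext k s (Algebra.TensorProduct.includeLeftRingHom : R →+* R ⊗[k] k) (prU_dU k s).le
      (((Algebra.TensorProduct.map (AlgHom.id k (Sec R (dU s))) (Bialgebra.counitAlgHom k O)).comp (rho0 s c hc)).toRingHom)
      (Algebra.TensorProduct.includeLeftRingHom)
      (fun r => by
        change Algebra.TensorProduct.map (AlgHom.id k (Sec R (dU s))) (Bialgebra.counitAlgHom k O)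
          (rho0 s c hc (secOf _ r)) = _
        rw [rho0_secOf, map_tenMap]
        congr 1
        exact c.counit r)
      (fun r => rfl)
    intro x
    exact congrArg (fun ψ => ψ x) h

theorem coAlgSec_secOf (hc : prU k O (dU s) ≤ dU (fun i => c.ρ (s i))) (r : R) :
    (coAlgSec s c hc).ρ (secOf _ r) = tenMap O (dU s) (c.ρ r) := rho0_secOf s c hc r

end Coact

end Groth.Agent.ResProp.EF.K558
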