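import Mathlib.AlgebraicGeometry.Morphisms.Flat
import Mathlib.AlgebraicGeometry.QuasiAffine

/-!
# Sections over a quasi-compact open of an affine scheme (S16912, G1, node P4, first part)

`W : (Spec (.of R)).Opens`.  `toSec W : R →+* Γ(Spec R, W)`, `secMap f : Γ(Spec R, W) →+* Γ(Spec R', W')` for a ring map
`f : R →+* R'` with `W' ≤ f⁻¹ W`.  `dU s = ⋃ D(s i)`.

* `eq_zero_of_forall` : `w ∈ Γ(Spec R, W')`, `W' ≤ ⋃ D(s i)`, killed by powers of all `s i` ⟹ `w = 0`;
* `exists_pow_mul_eq` : for `z ∈ Γ(Spec R, ⋃ D(s i))` some `s i ^ n z` comes from `R`;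
* `secHom_ext` : two ring maps out of `Γ(Spec R, W)` into `Γ(Spec R', W')` which agree on `R` are equal.
-/

set_option autoImplicit false
universe u v

open CategoryTheory CategoryTheory.Limits AlgebraicGeometry TopologicalSpace Opposite

namespace Groth.Agent.ResProp.EF.K558

variable {R : Type u} [CommRing R] {R' : Type u} [CommRing R'] {R'' : Type u} [CommRing R'']

/-- `R → Γ(Spec R, W)` -/
noncomputable def toSec (W : (Spec (.of R)).Opens) : R →+* Γ(Spec (.of R), W) :=
  ((Scheme.ΓSpecIso (.of R)).inv ≫ (Spec (.of R)).presheaf.map (homOfLE le_top).op).hom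

/-- the open `⋃ D(s i)` -/
noncomputable def dU {ι : Type v} (s : ι → R) : (Spec (.of R)).Opens := ⨆ i, PrimeSpectrum.basicOpen (s i)

/-- functoriality of sections -/
noncomputable def secMap (f : R →+* R') (W : (Spec (.of R)).Opens) (W' : (Spec (.of R')).Opens)
    (h : W' ≤ Spec.map (CommRingCat.ofHom f) ⁻¹ᵁ W) : Γ(Spec (.of R), W) →+* Γ(Spec (.of R'), W') :=
  ((Spec.map (CommRingCat.ofHom f)).appLE W W' h).hom

theorem secMap_toSec (f : R →+* R') (W : (Spec (.of R)).Opens) (W' : (Spec (.of R')).Opens)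
    (h : W' ≤ Spec.map (CommRingCat.ofHom f) ⁻¹ᵁ W) (r : R) : secMap f W W' h (toSec W r) = toSec W' (f r) := by
  have h1 : ((Scheme.ΓSpecIso (.of R)).inv ≫ (Spec (.of R)).presheaf.map (homOfLE le_top).op) ≫
      (Spec.map (CommRingCat.ofHom f)).appLE W W' h =
      CommRingCat.ofHom f ≫ (Scheme.ΓSpecIso (.of R')).inv ≫ (Spec (.of R')).presheaf.map (homOfLE le_top).op := by
    rw [Category.assoc, Scheme.Hom.map_appLE, Scheme.ΓSpecIso_inv_naturality_assoc]
    rfl
  exact congrArg (fun ψ => ψ.hom r) h1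

theorem secMap_comp (f : R →+* R') (g : R' →+* R'') (W : (Spec (.of R)).Opens) (W' : (Spec (.of R')).Opens)
    (W'' : (Spec (.of R'')).Opens) (h : W' ≤ Spec.map (CommRingCat.ofHom f) ⁻¹ᵁ W)
    (h' : W'' ≤ Spec.map (CommRingCat.ofHom g) ⁻¹ᵁ W') (h'' : W'' ≤ Spec.map (CommRingCat.ofHom (g.comp f)) ⁻¹ᵁ W) :
    (secMap g W' W'' h').comp (secMap f W W' h) = secMap (g.comp f) W W'' h'' := by
  have h1 : (Spec.map (CommRingCat.ofHom f)).appLE W W' h ≫ (Spec.map (CommRingCat.ofHom g)).appLE W' W'' h' =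
      (Spec.map (CommRingCat.ofHom (g.comp f))).appLE W W'' h'' := by
    rw [Scheme.Hom.appLE_comp_appLE]
    congr 1
    rw [CommRingCat.ofHom_comp, Spec.map_comp]
  exact congrArg (fun ψ => ψ.hom) h1

theorem mem_dU {ι : Type v} (s : ι → R) (x : Spec (.of R)) :
    x ∈ dU s ↔ ∃ i, x ∈ (PrimeSpectrum.basicOpen (s i) : (Spec (.of R)).Opens) :=
  TopologicalSpace.Opens.mem_iSup

theorem preimage_dU {ι : Type v} (f : R →+* R') (s : ι → R) :
    Spec.map (CommRingCat.ofHom f) ⁻¹ᵁ dU s = dU (fun i => f (s i)) := by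
  apply TopologicalSpace.Opens.ext
  ext x
  change Spec.map (CommRingCat.ofHom f) x ∈ dU s ↔ x ∈ dU fun i => f (s i)
  rw [mem_dU, mem_dU]
  rfl

theorem basicOpen_le_dU {ι : Type v} (s : ι → R) (i : ι) :
    (PrimeSpectrum.basicOpen (s i) : (Spec (.of R)).Opens) ≤ dU s :=
  le_iSup (fun i => (PrimeSpectrum.basicOpen (s i) : (Spec (.of R)).Opens)) i

theorem isCompact_dU {ι : Type v} [Finite ι] (s : ι → R) : IsCompact (dU s).1 := by
  have h : (dU s).1 = ⋃ i, (PrimeSpectrum.basicOpen (s i) : (Spec (.of R)).Opens).1 :=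
    TopologicalSpace.Opens.coe_iSup _
  rw [h]
  exact isCompact_iUnion fun i => PrimeSpectrum.isCompact_basicOpen (s i)

theorem isQuasiSeparated_open (W : (Spec (.of R)).Opens) : IsQuasiSeparated W.1 := by
  have h : IsQuasiSeparated (Set.univ : Set (Spec (.of R))) := isQuasiSeparated_univ
  exact h.of_subset (Set.subset_univ _)

/-- the basic open of the section `s` over `W` -/
theorem basicOpen_toSec (W : (Spec (.of R)).Opens) (r : R) :
    (Spec (.of R)).basicOpen (toSec W r) = W ⊓ PrimeSpectrum.basicOpen r := by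
  have h1 : (Spec (.of R)).basicOpen (toSec W r) =
      W ⊓ (Spec (.of R)).basicOpen ((Scheme.ΓSpecIso (.of R)).inv.hom r) := by
    exact Scheme.basicOpen_res _ _ _
  rw [h1]
  congr 1
  exact basicOpen_eq_of_affine' _ |>.trans (by simp)

/-- uniqueness: a section killed by powers of all `s i` is zero -/
theorem eq_zero_of_forall {ι : Type v} (s : ι → R) (W : (Spec (.of R)).Opens) (hW : W ≤ dU s)
    (w : Γ(Spec (.of R), W)) (h : ∀ i, ∃ n : ℕ, toSec W (s i) ^ n * w = 0) : w = 0 := by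
  apply (Spec (.of R)).sheaf.eq_of_locally_eq' (fun i => (Spec (.of R)).basicOpen (toSec W (s i))) W
    (fun i => homOfLE (Scheme.basicOpen_le _ _))
  · intro x hx
    obtain ⟨i, hi⟩ := (mem_dU s x).1 (hW hx)
    rw [TopologicalSpace.Opens.mem_iSup]
    exact ⟨i, by rw [basicOpen_toSec]; exact ⟨hx, hi⟩⟩
  · intro i
    obtain ⟨n, hn⟩ := h i
    have h1 : IsUnit (((Spec (.of R)).presheaf.map (homOfLE (Scheme.basicOpen_le _ (toSec W (s i)))).op).hom
        (toSec W (s i))) := RingedSpace.isUnit_res_basicOpen _ _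
    have h2 := congrArg ((Spec (.of R)).presheaf.map (homOfLE (Scheme.basicOpen_le _ (toSec W (s i)))).op).hom hn
    rw [map_mul, map_pow, map_zero] at h2
    have h3 := (h1.pow n).mul_left_cancel (h2.trans (mul_zero _).symm)
    refine h3.trans ?_
    exact (map_zero _).symm

theorem res_res {X : Scheme.{u}} {U V V' : X.Opens} (h : V ≤ U) (h' : V' ≤ V) (x : Γ(X, U)) :
    (X.presheaf.map (homOfLE h').op).hom ((X.presheaf.map (homOfLE h).op).hom x) =
      (X.presheaf.map (homOfLE (h'.trans h)).op).hom x := by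
  have h1 : X.presheaf.map (homOfLE h).op ≫ X.presheaf.map (homOfLE h').op =
      X.presheaf.map (homOfLE (h'.trans h)).op := by
    rw [← Functor.map_comp]
    rfl
  exact congrArg (fun ψ => ψ.hom x) h1

theorem res_toSec {U V : (Spec (.of R)).Opens} (h : V ≤ U) (r : R) :
    ((Spec (.of R)).presheaf.map (homOfLE h).op).hom (toSec U r) = toSec V r :=
  res_res le_top h _

/-- sections over `⋃ D(s i)` come from `R` after multiplication with a power of `s i` -/
theorem exists_pow_mul_eq {ι : Type v} [Finite ι] (s : ι → R) (z : Γ(Spec (.of R), dU s)) (i : ι) :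
    ∃ (n : ℕ) (a : R), toSec (dU s) (s i) ^ n * z = toSec (dU s) a := by
  let X : Scheme.{u} := Spec (.of R)
  let f₀ : Γ(X, ⊤) := (Scheme.ΓSpecIso (.of R)).inv.hom (s i)
  have hf₀ : X.basicOpen f₀ = PrimeSpectrum.basicOpen (s i) := basicOpen_eq_of_affine (R := .of R) (s i)
  have hV : X.basicOpen f₀ ≤ dU s := by rw [hf₀]; exact basicOpen_le_dU s i
  let zV : Γ(X, X.basicOpen f₀) := (X.presheaf.map (homOfLE hV).op).hom z
  obtain ⟨n, y, e⟩ := exists_eq_pow_mul_of_isCompact_of_isQuasiSeparated X ⊤ isCompact_univ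
    isQuasiSeparated_univ f₀ zV
  let a : R := (Scheme.ΓSpecIso (.of R)).hom.hom y
  have ha : (Scheme.ΓSpecIso (.of R)).inv.hom a = y :=
    congrArg (fun ψ => ψ.hom y) (Scheme.ΓSpecIso (.of R)).hom_inv_id
  -- the difference vanishes on `V`
  have h1 : (X.presheaf.map (homOfLE hV).op).hom (toSec (dU s) (s i) ^ n * z - toSec (dU s) a) = 0 := by
    rw [map_sub, map_mul, map_pow, res_toSec, res_toSec, sub_eq_zero]
    have e' : (X.presheaf.map (homOfLE (le_top : X.basicOpen f₀ ≤ ⊤)).op).hom y =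
        (X.presheaf.map (homOfLE (le_top : X.basicOpen f₀ ≤ ⊤)).op).hom f₀ ^ n * zV := e
    rw [← ha] at e'
    exact e'.symm
  have hle : X.basicOpen (toSec (dU s) (s i)) ≤ X.basicOpen f₀ := by
    rw [hf₀]
    exact (basicOpen_toSec (dU s) (s i)).le.trans inf_le_right
  obtain ⟨m, hm⟩ := exists_pow_mul_eq_zero_of_res_basicOpen_eq_zero_of_isCompact X (isCompact_dU s)
    (toSec (dU s) (s i) ^ n * z - toSec (dU s) a) (toSec (dU s) (s i)) (by
      have h2 := congrArg (X.presheaf.map (homOfLE hle).op).hom h1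
      rw [map_zero, res_res] at h2
      exact h2)
  refine ⟨m + n, s i ^ m * a, ?_⟩
  rw [mul_sub, sub_eq_zero, ← mul_assoc, ← pow_add] at hm
  rw [hm, map_mul, map_pow]

/-- ring maps out of `Γ(Spec R, W)` are determined by their restriction to `R` -/
theorem secHom_ext {ι : Type v} [Finite ι] (s : ι → R) (f : R →+* R') (W' : (Spec (.of R')).Opens)
    (hW : W' ≤ dU (fun i => f (s i))) (g g' : Γ(Spec (.of R), dU s) →+* Γ(Spec (.of R'), W'))
    (hg : ∀ r, g (toSec _ r) = toSec _ (f r)) (hg' : ∀ r, g' (toSec _ r) = toSec _ (f r)) : g = g' := by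
  ext z
  rw [← sub_eq_zero]
  refine eq_zero_of_forall (fun i => f (s i)) W' hW _ fun i => ?_
  obtain ⟨n, a, h⟩ := exists_pow_mul_eq s z i
  refine ⟨n, ?_⟩
  have h1 := congrArg g h
  have h2 := congrArg g' h
  rw [map_mul, map_pow, hg, hg] at h1
  rw [map_mul, map_pow, hg', hg'] at h2
  rw [mul_sub, h1, h2, sub_self]

end Groth.Agent.ResProp.EF.K558
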