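import Groth.Agent.ResProp.EF.K558.Sec
import Mathlib.RingTheory.TensorProduct.Basic
import Mathlib.RingTheory.Bialgebra.Basic
import Mathlib.Algebra.Category.Ring.Constructions

/-!
# Flat base change of sections over a quasi-compact open of an affine scheme (S16912, G1, node P4, second part)
-/

set_option autoImplicit false
universe u v

open CategoryTheory CategoryTheory.Limits AlgebraicGeometry TopologicalSpace Opposite TensorProduct

namespace Groth.Agent.ResProp.EF.K558

section PO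

variable {k R O R1 : Type u} [CommRing k] [CommRing R] [CommRing O] [CommRing R1]

theorem ofHom_toSec_comp (a : k →+* R) (W : (Spec (.of R)).Opens) :
    (Scheme.ΓSpecIso (.of k)).hom ≫ CommRingCat.ofHom ((toSec W).comp a) =
      (Spec.map (CommRingCat.ofHom a)).appLE ⊤ W le_top := by
  rw [← Iso.eq_inv_comp]
  change CommRingCat.ofHom a ≫ (Scheme.ΓSpecIso (.of R)).inv ≫ (Spec (.of R)).presheaf.map (homOfLE le_top).op = _
  rw [Scheme.ΓSpecIso_inv_naturality_assoc]
  rfl

/-- **Flat base change of sections**: the square `k → Γ(R, W)`, `k → O`, `Γ(R, W) → Γ(R1, W1)`, `O → Γ(R1, W1)` is a push-out. -/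
theorem isPushout_sec (a : k →+* R) (b : k →+* O) (f : R →+* R1) (g : O →+* R1)
    (h : IsPushout (CommRingCat.ofHom a) (CommRingCat.ofHom b) (CommRingCat.ofHom f) (CommRingCat.ofHom g)) (hb : b.Flat)
    (W : (Spec (.of R)).Opens) (hW : IsCompact W.1) (W1 : (Spec (.of R1)).Opens)
    (hW1 : W1 = Spec.map (CommRingCat.ofHom f) ⁻¹ᵁ W) :
    IsPushout (CommRingCat.ofHom ((toSec W).comp a)) (CommRingCat.ofHom b)
      (CommRingCat.ofHom (secMap f W W1 hW1.le)) (CommRingCat.ofHom ((toSec W1).comp g)) := by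
  have H : IsPullback (Spec.map (CommRingCat.ofHom f)) (Spec.map (CommRingCat.ofHom g))
      (Spec.map (CommRingCat.ofHom a)) (Spec.map (CommRingCat.ofHom b)) :=
    isPullback_SpecMap_of_isPushout _ _ _ _ h
  have hfl : Flat (Spec.map (CommRingCat.ofHom b)) := by
    rw [Flat.SpecMap_iff]
    exact hb
  have hU : W1 = Spec.map (CommRingCat.ofHom f) ⁻¹ᵁ W ⊓ Spec.map (CommRingCat.ofHom g) ⁻¹ᵁ (⊤ : (Spec (.of O)).Opens) := by
    rw [hW1]; simp
  have h1 := (isIso_pushoutSection_iff (US := (⊤ : (Spec (.of k)).Opens)) (UT := (⊤ : (Spec (.of O)).Opens)) (UX := W)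
    (UY := W1) H le_top le_top hU).1
    (isIso_pushoutSection_of_isQuasiSeparated_of_flat_right H le_top le_top hU
    (isAffineOpen_top _) (isAffineOpen_top _) hW (isQuasiSeparated_open W))
  refine IsPushout.of_iso h1 (Scheme.ΓSpecIso (.of k)) (Iso.refl _) (Scheme.ΓSpecIso (.of O)) (Iso.refl _) ?_ ?_ ?_ ?_
  · rw [ofHom_toSec_comp]
    exact Category.comp_id _
  · have e : (Spec.map (CommRingCat.ofHom b)).appLE ⊤ ⊤ le_top = (Spec.map (CommRingCat.ofHom b)).appTop :=
      ((Spec.map (CommRingCat.ofHom b)).app_eq_appLE).symm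
    rw [e]
    exact Scheme.ΓSpecIso_naturality (CommRingCat.ofHom b)
  · exact (Category.comp_id _).trans (Category.id_comp _).symm
  · rw [ofHom_toSec_comp]
    exact Category.comp_id _

end PO

section Ten

variable {k : Type u} [CommRing k] (R : Type u) [CommRing R]

/-- the ring `Γ(Spec R, W)` -/
def Sec (W : (Spec (.of R)).Opens) : Type u := Γ(Spec (.of R), W)

noncomputable instance (W : (Spec (.of R)).Opens) : CommRing (Sec R W) := inferInstanceAs (CommRing Γ(Spec (.of R), W))

noncomputable instance [Algebra k R] (W : (Spec (.of R)).Opens) : Algebra k (Sec R W) :=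
  ((toSec W).comp (algebraMap k R)).toAlgebra

instance [Algebra k R] (W : (Spec (.of R)).Opens) : IsScalarTower k R (Sec R W) :=
  IsScalarTower.of_algebraMap_eq' rfl

variable {R}

/-- `R → Γ(R, W)` with values in `Sec R W` -/
noncomputable def secOf (W : (Spec (.of R)).Opens) : R →+* Sec R W := toSec W

theorem algebraMap_sec (W : (Spec (.of R)).Opens) : algebraMap R (Sec R W) = secOf W := rfl

theorem algebraMap_sec' [Algebra k R] (W : (Spec (.of R)).Opens) :
    algebraMap k (Sec R W) = (secOf W).comp (algebraMap k R) := rfl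

/-- functoriality -/
noncomputable def sMap {R' : Type u} [CommRing R'] (f : R →+* R') (W : (Spec (.of R)).Opens) (W' : (Spec (.of R')).Opens)
    (h : W' ≤ Spec.map (CommRingCat.ofHom f) ⁻¹ᵁ W) : Sec R W →+* Sec R' W' := secMap f W W' h

theorem sMap_secOf {R' : Type u} [CommRing R'] (f : R →+* R') (W : (Spec (.of R)).Opens) (W' : (Spec (.of R')).Opens)
    (h : W' ≤ Spec.map (CommRingCat.ofHom f) ⁻¹ᵁ W) (r : R) : sMap f W W' h (secOf W r) = secOf W' (f r) :=
  secMap_toSec f W W' h r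

theorem sec_ext {R' : Type u} [CommRing R'] {ι : Type v} [Finite ι] (s : ι → R) (f : R →+* R') (W' : (Spec (.of R')).Opens)
    (hW : W' ≤ dU (fun i => f (s i))) (g g' : Sec R (dU s) →+* Sec R' W')
    (hg : ∀ r, g (secOf _ r) = secOf _ (f r)) (hg' : ∀ r, g' (secOf _ r) = secOf _ (f r)) : g = g' :=
  secHom_ext s f W' hW g g' hg hg'

variable [Algebra k R] (P : Type u) [CommRing P] [Algebra k P]

/-- the preimage of `W` in `Spec (R ⊗ P)` -/
noncomputable def prU (k : Type u) [CommRing k] [Algebra k R] (P : Type u) [CommRing P] [Algebra k P]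
    (W : (Spec (.of R)).Opens) : (Spec (.of (R ⊗[k] P))).Opens :=
  Spec.map (CommRingCat.ofHom (Algebra.TensorProduct.includeLeftRingHom : R →+* R ⊗[k] P)) ⁻¹ᵁ W

theorem prU_dU {ι : Type v} (s : ι → R) : prU k P (dU s) = dU fun i => s i ⊗ₜ[k] (1 : P) :=
  preimage_dU _ _

theorem isPushout_Sec [Module.Flat k P] (W : (Spec (.of R)).Opens) (hW : IsCompact W.1) :
    IsPushout (CommRingCat.ofHom (algebraMap k (Sec R W))) (CommRingCat.ofHom (algebraMap k P))
      (CommRingCat.ofHom (sMap (Algebra.TensorProduct.includeLeftRingHom : R →+* R ⊗[k] P) W (prU k P W) le_rfl))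
      (CommRingCat.ofHom ((secOf (prU k P W)).comp (Algebra.TensorProduct.includeRight : P →ₐ[k] R ⊗[k] P).toRingHom)) :=
  isPushout_sec (algebraMap k R) (algebraMap k P) (Algebra.TensorProduct.includeLeftRingHom : R →+* R ⊗[k] P)
    (Algebra.TensorProduct.includeRight : P →ₐ[k] R ⊗[k] P).toRingHom (CommRingCat.isPushout_tensorProduct k R P)
    (RingHom.flat_algebraMap_iff.2 inferInstance) W hW (prU k P W) rfl

/-- `Γ(R, W) → Γ(R ⊗ P, W)` -/
noncomputable def bcL (W : (Spec (.of R)).Opens) : Sec R W →ₐ[k] Sec (R ⊗[k] P) (prU k P W) where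
  toRingHom := sMap (Algebra.TensorProduct.includeLeftRingHom : R →+* R ⊗[k] P) W (prU k P W) le_rfl
  commutes' c := sMap_secOf (Algebra.TensorProduct.includeLeftRingHom : R →+* R ⊗[k] P) W (prU k P W) le_rfl
    (algebraMap k R c)

/-- `P → Γ(R ⊗ P, W)` -/
noncomputable def bcR (W : (Spec (.of R)).Opens) : P →ₐ[k] Sec (R ⊗[k] P) (prU k P W) :=
  (IsScalarTower.toAlgHom k (R ⊗[k] P) (Sec (R ⊗[k] P) (prU k P W))).comp Algebra.TensorProduct.includeRight

/-- `Γ(R, W) ⊗ P → Γ(R ⊗ P, W)` -/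
noncomputable def bc (W : (Spec (.of R)).Opens) : Sec R W ⊗[k] P →ₐ[k] Sec (R ⊗[k] P) (prU k P W) :=
  Algebra.TensorProduct.productMap (bcL P W) (bcR P W)

theorem bc_tmul (W : (Spec (.of R)).Opens) (z : Sec R W) (x : P) :
    bc P W (z ⊗ₜ[k] x) = bcL P W z * bcR P W x :=
  Algebra.TensorProduct.productMap_apply_tmul _ _ _ _

theorem bijective_of_isPushout {B1 D1 D2 R1 : CommRingCat.{u}} (g : B1 ⟶ D1) (g' : B1 ⟶ D2) (a : D1 ⟶ R1) (b : D2 ⟶ R1)
    (h : IsPushout g g' a b) [Algebra B1 D1] [Algebra B1 D2] [Algebra B1 R1] (hg : algebraMap B1 D1 = g.hom)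
    (hg' : algebraMap B1 D2 = g'.hom)
    (a1 : D1 →ₐ[B1] R1) (b1 : D2 →ₐ[B1] R1) (ha : a1.toRingHom = a.hom) (hb : b1.toRingHom = b.hom) :
    Function.Bijective (Algebra.TensorProduct.productMap a1 b1) := by
  have h0 := CommRingCat.isPushout_tensorProduct B1 D1 D2
  have e1 : CommRingCat.ofHom (algebraMap B1 D1) = g := by
    rw [hg]; rfl
  have e2 : CommRingCat.ofHom (algebraMap B1 D2) = g' := by
    rw [hg']; rfl
  rw [e1, e2] at h0
  let e := h0.isoIsPushout _ _ h
  have he : (Algebra.TensorProduct.productMap a1 b1).toRingHom = e.hom.hom := by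
    have h1 : CommRingCat.ofHom (Algebra.TensorProduct.productMap a1 b1).toRingHom = e.hom := by
      apply h0.hom_ext
      · rw [IsPushout.inl_isoIsPushout_hom]
        ext x
        change Algebra.TensorProduct.productMap a1 b1 (x ⊗ₜ 1) = a.hom x
        rw [Algebra.TensorProduct.productMap_apply_tmul, map_one, mul_one, ← ha]
        rfl
      · rw [IsPushout.inr_isoIsPushout_hom]
        ext x
        change Algebra.TensorProduct.productMap a1 b1 (1 ⊗ₜ x) = b.hom x
        rw [Algebra.TensorProduct.productMap_apply_tmul, map_one, one_mul, ← hb]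
        rfl
    rw [← h1]
    rfl
  have hbij : Function.Bijective e.hom.hom := (ConcreteCategory.isIso_iff_bijective e.hom).1 inferInstance
  rw [← he] at hbij
  exact hbij

theorem bijective_bc [Module.Flat k P] (W : (Spec (.of R)).Opens) (hW : IsCompact W.1) :
    Function.Bijective (bc (k := k) P W) :=
  bijective_of_isPushout (B1 := .of k) (D1 := .of (Sec R W)) (D2 := .of P) (R1 := .of (Sec (R ⊗[k] P) (prU k P W)))
    _ _ _ _ (isPushout_Sec P W hW) rfl rfl (bcL P W) (bcR P W) rfl rfl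

/-- `R ⊗ P → Γ(R, W) ⊗ P` -/
noncomputable def tenMap (W : (Spec (.of R)).Opens) : R ⊗[k] P →ₐ[k] Sec R W ⊗[k] P :=
  Algebra.TensorProduct.map (IsScalarTower.toAlgHom k R (Sec R W)) (AlgHom.id k P)

theorem tenMap_tmul (W : (Spec (.of R)).Opens) (r : R) (x : P) : tenMap P W (r ⊗ₜ[k] x) = secOf W r ⊗ₜ[k] x := rfl

theorem bc_tenMap (W : (Spec (.of R)).Opens) (t : R ⊗[k] P) : bc P W (tenMap P W t) = secOf (prU k P W) t := by
  have h : (bc P W).comp (tenMap P W) = IsScalarTower.toAlgHom k (R ⊗[k] P) (Sec (R ⊗[k] P) (prU k P W)) := by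
    apply Algebra.TensorProduct.ext
    · ext r
      change bc P W (tenMap P W (r ⊗ₜ[k] (1 : P))) = secOf (prU k P W) (r ⊗ₜ[k] (1 : P))
      rw [tenMap_tmul, bc_tmul, map_one, mul_one]
      exact sMap_secOf _ _ _ _ _
    · ext x
      change bc P W (tenMap P W ((1 : R) ⊗ₜ[k] x)) = secOf (prU k P W) ((1 : R) ⊗ₜ[k] x)
      rw [tenMap_tmul, bc_tmul, map_one, map_one, one_mul]
      rfl
  exact congrArg (fun ψ => ψ t) h

end Ten

end Groth.Agent.ResProp.EF.K558
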